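import Cfsg.Agent.H544.KKL.Classical
import Cfsg.Agent.H112.SUIso
import Cfsg.Agent.ClassicalGeometry.PSUAutBasic

/-!
# S4546: the row `PSU_n(q)`, `q` odd (helper157)
-/

set_option autoImplicit false

namespace Cfsg.Agent.H157.KKL

open Cfsg Cfsg.Agent.H613.KKL Cfsg.Agent.H544.KKL Cfsg.Agent.LieClassical.HermBasic
open Cfsg.Agent.ClassicalGeometry.PSUAutBasic (pr pr_eq_one_iff pr_surjective)
open scoped Matrix

theorem E_psu {F : Type} [Field F] [Fintype F] {p : ℕ} [Fact p.Prime] [CharP F p] (hp : p ≠ 2) (n q : ℕ)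
    (hq : Fintype.card F = q ^ 2) (hn : 3 ≤ n) : NoCfg (PSU n F q) := by
  have h2 : (2 : F) ≠ 0 := by
    intro h
    have h1 : ((2 : ℕ) : F) = 0 := by exact_mod_cast h
    rw [CharP.cast_eq_zero_iff F p] at h1
    exact hp ((Nat.prime_dvd_prime_iff_eq (Fact.out : p.Prime) Nat.prime_two).1 h1)
  have hker : (pr n F q).ker = Subgroup.center (SU n F q) := by
    ext g
    rw [MonoidHom.mem_ker, pr_eq_one_iff]
  let ρ : SU n F q →* Matrix.GeneralLinearGroup (Fin n) F :=
    Matrix.SpecialLinearGroup.toGL.comp (SU n F q).subtype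
  have hρv : ∀ g : SU n F q, ((ρ g : Matrix.GeneralLinearGroup (Fin n) F) : Matrix (Fin n) (Fin n) F) =
      ((g : Matrix.SpecialLinearGroup (Fin n) F) : Matrix (Fin n) (Fin n) F) := fun g => rfl
  refine noCfg_of_signs h2 (pr n F q) pr_surjective hker.le (by rw [hker]; exact H112.center_SU_cyclic hq hn) ρ
    (fun a b hab => Subtype.ext (Subtype.ext (by rw [← hρv, ← hρv, hab]))) fun T hTf hT hT2 hf => ?_
  have hdet : ∀ t ∈ T, ((t : Matrix (Fin n) (Fin n) F)).det = 1 ∨ ((t : Matrix (Fin n) (Fin n) F)).det = -1 := by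
    intro t ht
    have h1 := congrArg (fun u : Matrix.GeneralLinearGroup (Fin n) F => (u : Matrix (Fin n) (Fin n) F).det) (hT2 t ht)
    simp only [Units.val_mul, Matrix.det_mul, Units.val_one, Matrix.det_one] at h1
    exact mul_self_eq_one_iff.1 h1
  refine card_inf_ge T ρ.range hT ((Matrix.GeneralLinearGroup.det).comp T.subtype) ?_ ?_
  · have h3 : (((Matrix.GeneralLinearGroup.det).comp T.subtype).range : Set Fˣ) ⊆ {1, -1} := by
      rintro _ ⟨t, rfl⟩
      rcases hdet t t.2 with h | h
      · left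
        exact Units.ext h
      · right
        exact Units.ext (by rw [Units.val_neg, Units.val_one]; exact h)
    have h4 : Nat.card ((Matrix.GeneralLinearGroup.det).comp T.subtype).range ≤ Nat.card ({1, -1} : Set Fˣ) :=
      Nat.card_mono (Set.toFinite _) h3
    refine h4.trans ?_
    rw [Nat.card_coe_set_eq]
    exact (Set.ncard_insert_le _ _).trans (by rw [Set.ncard_singleton]; norm_num)
  · intro t ht
    have hd : ((t : Matrix.GeneralLinearGroup (Fin n) F) : Matrix (Fin n) (Fin n) F).det = 1 := congrArg Units.val ht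
    have hform := hf (fun u v => hermForm n F q u v) (fun u v w => herm_add_left u v w) (fun u v w => herm_add_right hq u v w)
      (fun g u v => (mem_SU_iff (g : Matrix.SpecialLinearGroup (Fin n) F)).1 g.2 u v) t t.2
    have hmem : (⟨((t : Matrix.GeneralLinearGroup (Fin n) F) : Matrix (Fin n) (Fin n) F), hd⟩ :
        Matrix.SpecialLinearGroup (Fin n) F) ∈ SU n F q := (mem_SU_iff _).2 hform
    exact ⟨⟨_, hmem⟩, Units.ext rfl⟩

end Cfsg.Agent.H157.KKL
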